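import Mathlib
import Cfsg.Prelude.Def_Characters
import Cfsg.Prelude.Def_Blocks
import Cfsg.Agent.Lib.Helper25.CharLinear
import Cfsg.Agent.Lib.helper7.BR.Defs

/-!
# Project BT (Brauer–Tuan 1945, S0997 / S0998): definitions

`G` simple, not cyclic, `|G| = p q^b g₀`, `g₀ < p - 1` ⟹ `|G| < p ^ 3`; then S0999 (Brauer–Reynolds) gives
`G ≅ PSL(2,p)` or `G ≅ PSL(2,2^m)`, `p = 2^m + 1`.  See `PLAN.md`.

`PB3 p e P X Y a ε` is the description of the principal `p`-block for a Sylow subgroup `P` of order `p` with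
`e = |N_G(P) : C_G(P)|`, `1 < e < p - 1` (from S4709; it extends the conclusion of `pb_values` of project BH and
`PB0` of project PSL): `X` (`e` characters with constant value `a ξ = ± 1` on the `p`-singular elements),
`Y` (`(p - 1) / e` characters which agree on the `p`-regular elements and whose value at a `p`-singular
element depends only on its `p`-part).  `nrm P = N_G(P)`, `cen P = C_G(P)` are those of project BR.
-/

set_option autoImplicit false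

namespace Cfsg.Agent.Lib.Helper13.BT

open Classical
open Cfsg.Agent.Lib.Helper25
open Cfsg.Agent.Lib.helper7.BR

universe u

variable {G : Type u} [Group G] [Fintype G]

/-- the principal block for `1 < e`, `e + 1 < p` -/
structure PB3 (p e : ℕ) (P : Sylow p G) (X Y : Finset (Cfsg.IrrCharacter G))
    (a : Cfsg.IrrCharacter G → ℤ) (ε : ℤ) : Prop where
  cardX : X.card = e
  cardY : Y.card * e = p - 1
  disj : Disjoint X Y
  triv_mem : trivIrr G ∈ X
  a_pm : ∀ ξ ∈ X, a ξ = 1 ∨ a ξ = -1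
  valX : ∀ ξ ∈ X, ∀ g : G, p ∣ orderOf g → (ξ : G → ℂ) g = (a ξ : ℂ)
  eps_pm : ε = 1 ∨ ε = -1
  sumP : ∀ η ∈ Y, ∑ x : ↥(P : Subgroup G), (η : G → ℂ) (x : G) = (η : G → ℂ) 1 - (ε : ℂ) * (e : ℂ)
  sumY : ∀ g : G, p ∣ orderOf g → ∑ η ∈ Y, (η : G → ℂ) g = -(ε : ℂ)
  rel : ∀ η ∈ Y, ∀ g : G, ¬ p ∣ orderOf g →
    (ε : ℂ) * (η : G → ℂ) g = ∑ ξ ∈ X, (a ξ : ℂ) * (ξ : G → ℂ) g
  agree : ∀ η ∈ Y, ∀ η' ∈ Y, ∀ g : G, ¬ p ∣ orderOf g → (η : G → ℂ) g = (η' : G → ℂ) g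
  ppart : ∀ η ∈ Y, ∀ z y : G, Cfsg.IsPPart p z y → y ∈ (P : Subgroup G) → y ≠ 1 →
    (η : G → ℂ) z = (η : G → ℂ) y

end Cfsg.Agent.Lib.Helper13.BT
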