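import Mathlib
import Cfsg.Agent.Lib.Helper13.BT.Defs
import Cfsg.Agent.Lib.Helper19.BTARITH4
import Cfsg.Agent.Lib.Helper13.BTARITHF
import Cfsg.Agent.Lib.Helper13.BTARITHQ
import Cfsg.Agent.Lib.Helper24.BTBOUND
import Cfsg.Agent.Lib.Helper16.BTBURN
import Cfsg.Agent.Lib.helper7.BTCASEM2
import Cfsg.Agent.Lib.Helper1.BTCASEP
import Cfsg.Agent.Lib.Helper16.BTCCONJ
import Cfsg.Agent.Lib.helper7.BTCENT1
import Cfsg.Agent.Lib.helper7.BTCENT2
import Cfsg.Agent.Lib.helper6.BTCLS
import Cfsg.Agent.Lib.helper4.BTCNT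
import Cfsg.Agent.Lib.Helper13.BTCNTM
import Cfsg.Agent.Lib.Helper24.BTCSUM
import Cfsg.Agent.Lib.Helper1.BTE1B
import Cfsg.Agent.Lib.Helper21.BTFAITH
import Cfsg.Agent.Lib.helper4.BTINV
import Cfsg.Agent.Lib.Helper22.BTKEYW
import Cfsg.Agent.Lib.helper6.BTMID
import Cfsg.Agent.Lib.Helper21.BTNCFIN
import Cfsg.Agent.Lib.Helper13.BTPB3
import Cfsg.Agent.Lib.helper6.BTPERF
import Cfsg.Agent.Lib.helper6.BTREAL
import Cfsg.Agent.Lib.helper4.BTSYL2
import Cfsg.Agent.Lib.Helper16.BTTOPBOT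
import Cfsg.Agent.Lib.Helper1.BTVAN
import Cfsg.Agent.Lib.helper8.BTXDEG
import Cfsg.Agent.Lib.helper8.BTYDEG
import Cfsg.Agent.Lib.helper8.Burnside

set_option autoImplicit false
set_option linter.unusedVariables false
set_option linter.unusedSectionVars false
set_option linter.style.haveILetI false

namespace Cfsg.Agent.Lib.Helper13.BT

open Classical
open scoped ComplexConjugate
open Cfsg.Agent.Lib.Helper25 Cfsg.Agent.Lib.Helper29
open Cfsg.Agent.Lib.helper7.BR

universe u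

section newcase

variable {G : Type u} [Group G] [Fintype G] {p : ℕ} [Fact p.Prime]

/-- NEWCASE : `2 f + 1 = p`, `e = f = 2^c`, `ε = -1`, the members of `Y` of degree `f + 1`, `|G| = p 2^b (f+1)` -/
theorem new_case [IsSimpleGroup G] (hnc : ¬ ∀ x y : G, x * y = y * x) (hodd : p ≠ 2) {P : Sylow p G}
    (hP : Nat.card ↥(P : Subgroup G) = p) {f : ℕ} (hrel : (cen P).relIndex (nrm P) = f)
    {X Y : Finset (Cfsg.IrrCharacter G)} {a : Cfsg.IrrCharacter G → ℤ}
    (hB : PB3 p f P X Y a (-1)) (hpf : 2 * f + 1 = p) (hf2 : 2 ≤ f) (c : ℕ) (hfc : f = 2 ^ c) (b : ℕ)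
    (hcard : Nat.card G = p * 2 ^ b * (f + 1))
    (hdegY : ∀ η ∈ Y, leoDeg η = f + 1)
    (heven : ∀ ξ ∈ X, ξ ≠ trivIrr G → Even (leoDeg ξ)) : Nat.card G < p ^ 3 := by
  have hperf := perfect_of_simple hnc
  -- `Y` is not empty
  have hYcard : Y.card = 2 := by
    have h1 := hB.cardY
    have h2 : p - 1 = 2 * f := by omega
    rw [h2] at h1
    exact Nat.eq_of_mul_eq_mul_right (by omega) h1
  have hYne : Y.Nonempty := by
    rw [← Finset.card_pos, hYcard]; norm_num
  obtain ⟨θ, hθ⟩ := hYne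
  have hθne : θ ≠ trivIrr G := by
    intro h
    rw [h] at hθ
    exact (Finset.disjoint_left.mp hB.disj hB.triv_mem) hθ
  have hfaith := faithful_of_simple θ hθne
  -- `C_G(P) = P`
  have hcen : cen P = (P : Subgroup G) :=
    cen_eq_of_pregular P hP (fun c hc hreg =>
      pregular_cen_eq_one hP hB θ hθ (by rw [hdegY θ hθ]; omega) hfaith c hc hreg)
  have hvan : ∀ ξ : Cfsg.IrrCharacter G, ξ ∉ X → ξ ∉ Y → ∀ x ∈ (P : Subgroup G), x ≠ 1 →
      (ξ : G → ℂ) x = 0 := fun ξ hX hY x hx hx1 =>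
    van_rest hP hcen hB (f + 1) (by omega) hdegY ξ hX hY x hx hx1
  -- the minus degrees
  obtain ⟨hd0, ha0, hd2, hcong, -⟩ := X_degrees hperf hP hB
  obtain ⟨hB1, hB2⟩ := degree_bounds hB hpf hdegY
  have hc1 : 1 ≤ c := by
    rcases Nat.eq_zero_or_pos c with h | h
    · rw [h] at hfc; omega
    · exact h
  have hfe : Even f := by
    rw [hfc]
    exact (Nat.even_pow.mpr ⟨even_two, by omega⟩)
  have hminus := count_minus p f hpf hf2 hfe X (trivIrr G) hB.triv_mem hB.cardX a hB.a_pm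
    (fun ξ => leoDeg ξ) hd0 ha0 hd2 hcong heven hB1 hB2
  -- the involution
  obtain ⟨t, ht1, ht2, hinv⟩ := exists_inverting hodd P hP hcen (by rw [hrel]; exact hfe)
  have hpodd : Odd p := (Fact.out : p.Prime).odd_of_ne_two hodd
  have hmodd : Odd (p * (f + 1)) := hpodd.mul (by exact Even.add_one hfe)
  have hb1 : 1 ≤ b := by
    have ho : orderOf t = 2 := orderOf_eq_prime (by rw [pow_two]; exact ht2) ht1
    have hdvd : 2 ∣ Nat.card G := by rw [← ho]; exact orderOf_dvd_natCard t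
    rcases Nat.eq_zero_or_pos b with h | h
    · exfalso
      rw [hcard, h, pow_zero, mul_one] at hdvd
      exact (Nat.not_even_iff_odd.mpr hmodd) (even_iff_two_dvd.mpr hdvd)
    · exact h
  obtain ⟨w, hw1, hw2, hwc⟩ := central_involution (G := G) b (p * (f + 1)) hb1 hmodd
    (by rw [hcard]; ring)
  have hconj := two_central hnc hodd hP hcen hB hpf c hfc b hcard hvan hdegY hminus t ht1 ht2 hinv
    w hw1 hw2 hwc
  have hdvd : 2 ^ b ∣ Nat.card ↥(Subgroup.centralizer ({t} : Set G)) := by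
    rw [card_centralizer_conj t w hconj]; exact hwc
  have hle := cent_bound hperf hodd hP hcen hB hpf b hcard hvan hdegY t ht1 ht2 hinv
  rw [hcard]
  exact nc_final p f b _ hpf hf2 Nat.card_pos hdvd hle

end newcase

/-- the main bound -/
theorem bt_main {G : Type u} [Group G] [Finite G] [IsSimpleGroup G] (hG : ¬ IsCyclic G) (p q b g₀ : ℕ)
    (hp : p.Prime) (hq : q.Prime) (hpq : p ≠ q) (hG' : Nat.card G = p * q ^ b * g₀) (hg : g₀ < p - 1) :
    Nat.card G < p ^ 3 := by
  haveI : Fact p.Prime := ⟨hp⟩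
  haveI : Fintype G := Fintype.ofFinite G
  have hnc : ¬ ∀ x y : G, x * y = y * x := by
    intro hc
    letI : CommGroup G := { (inferInstance : Group G) with mul_comm := hc }
    exact hG (IsSimpleGroup.isCyclic (α := G))
  have hperf := perfect_of_simple hnc
  have hcpos : 0 < Nat.card G := Nat.card_pos
  have hg0 : 0 < g₀ := by
    rcases Nat.eq_zero_or_pos g₀ with h | h
    · rw [h, mul_zero] at hG'; omega
    · exact h
  have hodd : p ≠ 2 := by
    intro h; rw [h] at hg; omega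
  -- the Sylow subgroup
  have hdiv : p ∣ Nat.card G := by rw [hG', mul_assoc]; exact Dvd.intro _ rfl
  have hsq : ¬ p ^ 2 ∣ Nat.card G := by
    intro h
    rw [hG', pow_two, mul_assoc] at h
    have h1 : p ∣ q ^ b * g₀ := (Nat.mul_dvd_mul_iff_left hp.pos).mp h
    rcases (Nat.Prime.dvd_mul hp).mp h1 with h2 | h2
    · exact hpq ((Nat.prime_dvd_prime_iff_eq hp hq).mp (hp.dvd_of_dvd_pow h2))
    · have := Nat.le_of_dvd hg0 h2
      omega
  have hfac : (Nat.card G).factorization p = 1 := by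
    have hG0 : Nat.card G ≠ 0 := hcpos.ne'
    have h1 : 1 ≤ (Nat.card G).factorization p :=
      (hp.dvd_iff_one_le_factorization hG0).mp hdiv
    have h2 : ¬ 2 ≤ (Nat.card G).factorization p := by
      intro h
      exact hsq ((hp.pow_dvd_iff_le_factorization hG0).mpr h)
    omega
  obtain ⟨P⟩ : Nonempty (Sylow p G) := inferInstance
  have hP : Nat.card ↥(P : Subgroup G) = p := by
    rw [P.card_eq_multiplicity, hfac, pow_one]
  -- the index `e`
  set e := (cen P).relIndex (nrm P) with he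
  have hedvd : e ∣ p - 1 :=
    Cfsg.Agent.Lib.helper8.h8_relIndex_centralizer_normalizer_dvd_prime p hp (P : Subgroup G) hP
  have hp2 := hp.two_le
  have he0 : 0 < e := Nat.pos_of_dvd_of_pos hedvd (by omega)
  have hele : e ≤ p - 1 := Nat.le_of_dvd (by omega) hedvd
  by_cases hcase : e = 1 ∨ e + 1 = p
  · exact (no_top_bot hperf hodd P hP e he.symm hcase q b g₀ hq hpq hG' hg).elim
  have h1 : 1 < e := by
    by_contra h; exact hcase (Or.inl (by omega))
  have h2 : e + 1 < p := by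
    by_contra h; exact hcase (Or.inr (by omega))
  obtain ⟨X, Y, a, ε, hB⟩ := pb_values3 P hP e he.symm h1 h2
  obtain ⟨z, hzY, hzg, hz⟩ := mid_theta hperf hP h1 h2 hB q b g₀ hq hpq hG' hg
  have hYne : Y.Nonempty := by
    rw [← Finset.card_pos]
    rcases Nat.eq_zero_or_pos Y.card with h | h
    · have := hB.cardY; rw [h, zero_mul] at this; omega
    · exact h
  obtain ⟨θ, hθ⟩ := hYne
  rcases hz with ⟨-, hze⟩ | ⟨hε, hze⟩
  · -- `z = e`
    exact case_plus hnc P hP e he.symm h1 h2 θ (by rw [hzY θ hθ, hze])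
  · -- `z = p - e`
    subst hε
    obtain ⟨hd0, ha0, hd2, hcong, hdvd⟩ := X_degrees hperf hP hB
    obtain ⟨z', -, hz'Y, -, hD⟩ := Y_degrees hP hB
    have hzz : z' = z := by rw [← hz'Y θ hθ, hzY θ hθ]
    rw [hzz] at hD
    have hD' : ∑ ξ ∈ X, a ξ * (leoDeg ξ : ℤ) = -(z : ℤ) := by rw [hD]; ring
    -- `2 e + 1 ≤ p`
    obtain ⟨k, hk⟩ := hedvd
    have hk2 : 2 ≤ k := by
      by_contra hcon
      have : k = 0 ∨ k = 1 := by omega
      rcases this with h | h
      · rw [h, mul_zero] at hk; omega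
      · rw [h, mul_one] at hk; omega
    have hep : 2 * e + 1 ≤ p := by
      have : e * 2 ≤ e * k := Nat.mul_le_mul_left e hk2
      omega
    -- `e ∣ |G|`
    have heG : e ∣ p * q ^ b * g₀ := by
      rw [← hG']
      have h3 : e ∣ Nat.card ↥(nrm P) := by
        rw [he]; exact Subgroup.relIndex_dvd_card _ _
      exact h3.trans (Subgroup.card_subgroup_dvd_card _)
    obtain ⟨hgz, hq2, ⟨c, hec⟩, heven⟩ := arith_q p q b g₀ e z hp hq hpq hg0 hg (by omega) hep
      ⟨k, hk⟩ hze hzg heG X (trivIrr G) hB.triv_mem a hB.a_pm (fun ξ => leoDeg ξ) hd0 ha0 hd2 hcong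
      (fun ξ _ => by rw [← hG']; exact hdvd ξ) hD'
    subst hq2
    subst hgz
    rcases arith_four p b e g₀ c hp (by omega) hep ⟨k, hk⟩ hec hze X (trivIrr G) hB.triv_mem a hB.a_pm
      (fun ξ => leoDeg ξ) hd0 ha0 hd2 hcong (fun ξ _ => by rw [← hG']; exact hdvd ξ) heven hD' with
      he2 | hpf
    · by_cases hp5 : 2 * e + 1 = p
      · exact new_case hnc hodd hP he.symm hB hp5 (by omega) c hec b
          (by rw [hG']; congr 1; omega) (fun η hη => by rw [hzY η hη]; omega) heven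
      · exact case_two hnc P hP (by omega) θ (by rw [hzY θ hθ]; omega)
    · exact new_case hnc hodd hP he.symm hB hpf (by omega) c hec b
        (by rw [hG']; congr 1; omega) (fun η hη => by rw [hzY η hη]; omega) heven

end Cfsg.Agent.Lib.Helper13.BT
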