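import Mathlib
import Cfsg.Agent.Lib.helper8.Burnside
import Cfsg.Agent.Lib.Helper28.P2Card
import Cfsg.Agent.S0494
import Cfsg.Agent.S0253

/-!
# Project BT: the derivation of S0998 (simple groups of order `p r q^b`) from S0997

`s0998_core` takes the conclusion of S0997 (for the larger prime `p` and `g₀ = r`) as a hypothesis.
-/

set_option autoImplicit false

namespace Cfsg.Agent.Lib.Helper13.BT

open Cfsg.Agent.Lib.helper8

/-- a simple group has no order `2 m` with `m > 1` odd (Burnside transfer for a Sylow 2-subgroup of order 2) -/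
theorem bt98_two_mul_odd {G : Type*} [Group G] [Finite G] [IsSimpleGroup G] (m : ℕ)
    (hG : Nat.card G = 2 * m) (hm : ¬ 2 ∣ m) (hm1 : 1 < m) : False := by
  have : Fact (Nat.Prime 2) := ⟨Nat.prime_two⟩
  have hG' : Nat.card G = 2 ^ 1 * m := by rw [hG, pow_one]
  obtain ⟨P⟩ : Nonempty (Sylow 2 G) := inferInstance
  have hP : Nat.card (P : Subgroup G) = 2 := by
    have := h8_sylow_card 2 1 m hG' hm P
    rwa [pow_one] at this
  have h1 := h8_relIndex_centralizer_normalizer_dvd_prime 2 Nat.prime_two (P : Subgroup G) hP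
  have h2 : (Subgroup.centralizer ((P : Subgroup G) : Set G)).relIndex
      (Subgroup.normalizer ((P : Subgroup G) : Set G)) = 1 := by
    have : (2 : ℕ) - 1 = 1 := rfl
    rw [this] at h1
    exact Nat.dvd_one.mp h1
  exact h8_simple_not_normalizer_le_centralizer 2 1 m hG' hm Nat.one_pos hm1 P
    (h8_normalizer_le_centralizer_of_relIndex _ h2)

/-- `3 ∣ 2 ^ k - 1` for even `k` -/
theorem bt98_three_dvd_even (k : ℕ) (hk : Even k) : 3 ∣ 2 ^ k - 1 := by
  obtain ⟨j, rfl⟩ := hk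
  rw [← two_mul, pow_mul]
  have : (2 : ℕ) ^ 2 = 3 + 1 := by norm_num
  rw [this]
  have h := (Nat.ModEq.pow j (show (3 + 1) ≡ 1 [MOD 3] from by decide))
  rw [one_pow] at h
  exact (Nat.modEq_iff_dvd' (Nat.one_le_pow _ _ (by norm_num))).mp h.symm

/-- `3 ∣ 2 ^ k + 1` for odd `k` -/
theorem bt98_three_dvd_odd (k : ℕ) (hk : Odd k) : 3 ∣ 2 ^ k + 1 := by
  obtain ⟨j, rfl⟩ := hk
  have h := bt98_three_dvd_even (2 * j) ⟨j, by ring⟩
  obtain ⟨c, hc⟩ := h
  have h1 : 1 ≤ 2 ^ (2 * j) := Nat.one_le_pow _ _ (by norm_num)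
  refine ⟨2 * c + 1, ?_⟩
  rw [pow_succ]
  omega

/-- the shape of `r q^b = 2^m u` with `u` odd and `m ≥ 2` -/
theorem bt98_split (r q b m u : ℕ) (hr : r.Prime) (hq : q.Prime) (hqr : q ≠ r) (hm : 2 ≤ m)
    (hu : ¬ 2 ∣ u) (h : r * q ^ b = 2 ^ m * u) : q = 2 ∧ u = r := by
  have h4 : 4 ∣ r * q ^ b := by
    rw [h]
    exact Dvd.dvd.mul_right (by
      obtain ⟨k, rfl⟩ := Nat.exists_eq_add_of_le hm
      rw [pow_add]; exact Dvd.intro _ rfl) _
  have hq2 : q = 2 := by
    by_contra hq2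
    have hcop : Nat.Coprime 4 (q ^ b) := by
      have : Nat.Coprime 2 q := (Nat.coprime_primes Nat.prime_two hq).mpr (Ne.symm hq2)
      have h22 : (4 : ℕ) = 2 ^ 2 := by norm_num
      rw [h22]
      exact Nat.Coprime.pow _ _ this
    have h4r : 4 ∣ r := hcop.dvd_of_dvd_mul_right h4
    have h2r : 2 ∣ r := Dvd.dvd.trans (by norm_num) h4r
    have := (Nat.prime_dvd_prime_iff_eq Nat.prime_two hr).mp h2r
    rw [← this] at h4r
    omega
  subst hq2
  refine ⟨rfl, ?_⟩
  have hr2 : ¬ 2 ∣ r := by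
    intro h2r
    exact hqr ((Nat.prime_dvd_prime_iff_eq Nat.prime_two hr).mp h2r)
  have hur : u ∣ r := by
    have hcop : Nat.Coprime u (2 ^ b) := by
      apply Nat.Coprime.pow_right
      exact (Nat.coprime_comm.mp ((Nat.Prime.coprime_iff_not_dvd Nat.prime_two).mpr hu))
    have : u ∣ r * 2 ^ b := ⟨2 ^ m, by rw [h]; ring⟩
    exact hcop.dvd_of_dvd_mul_right this
  rcases (Nat.dvd_prime hr).mp hur with h1 | h1
  · exfalso
    rw [h1, mul_one] at h
    have : r ∣ 2 ^ m := ⟨2 ^ b, h.symm⟩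
    have := hr.dvd_of_dvd_pow this
    exact hr2 ((Nat.prime_dvd_prime_iff_eq hr Nat.prime_two).mp this ▸ dvd_refl _)
  · exact h1

/-- arithmetic of the first alternative of S0997 -/
theorem bt98_arith1 (p q r b m : ℕ) (hp : p.Prime) (hq : q.Prime) (hr : r.Prime) (hqr : q ≠ r)
    (hp2 : 2 < p) (hpm : p = 2 ^ m + 1 ∨ p = 2 ^ m - 1)
    (h : 2 * (r * q ^ b) = (p - 1) * (p + 1)) : p = 5 ∨ p = 7 := by
  rcases hpm with hpm | hpm
  · -- p = 2^m + 1
    rcases Nat.lt_or_ge m 2 with hm | hm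
    · interval_cases m
      · norm_num at hpm; omega
      · exfalso
        norm_num at hpm
        subst hpm
        have h4 : r * q ^ b = 4 := by norm_num at h; omega
        have hr4 : r ∣ 2 ^ 2 := ⟨q ^ b, by rw [h4]; norm_num⟩
        have hr2 := (Nat.prime_dvd_prime_iff_eq hr Nat.prime_two).mp (hr.dvd_of_dvd_pow hr4)
        subst hr2
        have hq2' : q ^ b = 2 := by omega
        have hb : b ≠ 0 := by
          rintro rfl
          norm_num at hq2'
        have : q ∣ 2 := by rw [← hq2']; exact dvd_pow_self q hb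
        exact hqr ((Nat.prime_dvd_prime_iff_eq hq Nat.prime_two).mp this)
    · obtain ⟨k, rfl⟩ : ∃ k, m = k + 1 := ⟨m - 1, by omega⟩
      have hk : 1 ≤ k := by omega
      have hpow : 2 ^ (k + 1) = 2 * 2 ^ k := by rw [pow_succ]; ring
      have h1 : r * q ^ b = 2 ^ (k + 1) * (2 ^ k + 1) := by
        have e1 : p - 1 = 2 ^ (k + 1) := by omega
        have e2 : p + 1 = 2 * (2 ^ k + 1) := by omega
        rw [e1, e2] at h
        have : 2 * (r * q ^ b) = 2 * (2 ^ (k + 1) * (2 ^ k + 1)) := by rw [h]; ring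
        exact Nat.eq_of_mul_eq_mul_left (by norm_num) this
      have hu : ¬ 2 ∣ 2 ^ k + 1 := by
        obtain ⟨j, rfl⟩ : ∃ j, k = j + 1 := ⟨k - 1, by omega⟩
        rw [pow_succ]; omega
      obtain ⟨hq2, hur⟩ := bt98_split r q b (k + 1) (2 ^ k + 1) hr hq hqr hm hu h1
      rcases Nat.even_or_odd k with hev | hodd
      · exfalso
        have h3 : 3 ∣ p := by
          rw [hpm]; exact bt98_three_dvd_odd (k + 1) (hev.add_one)
        have hp3 := (Nat.prime_dvd_prime_iff_eq Nat.prime_three hp).mp h3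
        have : 2 ^ k = 1 := by omega
        have h2k : 2 ≤ 2 ^ k := by
          calc 2 = 2 ^ 1 := by norm_num
            _ ≤ 2 ^ k := Nat.pow_le_pow_right (by norm_num) hk
        omega
      · left
        have h3 : 3 ∣ r := by
          rw [← hur]; exact bt98_three_dvd_odd k hodd
        have hr3 := (Nat.prime_dvd_prime_iff_eq Nat.prime_three hr).mp h3
        omega
  · -- p = 2^m - 1
    have hm : 2 ≤ m := by
      by_contra hm
      have hm' : m < 2 := by omega
      interval_cases m <;> norm_num at hpm <;> omega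
    obtain ⟨k, rfl⟩ : ∃ k, m = k + 1 := ⟨m - 1, by omega⟩
    have hk : 1 ≤ k := by omega
    have hpow : 2 ^ (k + 1) = 2 * 2 ^ k := by rw [pow_succ]; ring
    have h2k : 2 ≤ 2 ^ k := by
      calc 2 = 2 ^ 1 := by norm_num
        _ ≤ 2 ^ k := Nat.pow_le_pow_right (by norm_num) hk
    have h1 : r * q ^ b = 2 ^ (k + 1) * (2 ^ k - 1) := by
      have e1 : p - 1 = 2 * (2 ^ k - 1) := by omega
      have e2 : p + 1 = 2 ^ (k + 1) := by omega
      rw [e1, e2] at h
      have : 2 * (r * q ^ b) = 2 * (2 ^ (k + 1) * (2 ^ k - 1)) := by rw [h]; ring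
      exact Nat.eq_of_mul_eq_mul_left (by norm_num) this
    have hu : ¬ 2 ∣ 2 ^ k - 1 := by
      obtain ⟨j, rfl⟩ : ∃ j, k = j + 1 := ⟨k - 1, by omega⟩
      have : 1 ≤ 2 ^ j := Nat.one_le_pow _ _ (by norm_num)
      rw [pow_succ]; omega
    obtain ⟨hq2, hur⟩ := bt98_split r q b (k + 1) (2 ^ k - 1) hr hq hqr hm hu h1
    rcases Nat.even_or_odd k with hev | hodd
    · right
      have h3 : 3 ∣ r := by
        rw [← hur]; exact bt98_three_dvd_even k hev
      have hr3 := (Nat.prime_dvd_prime_iff_eq Nat.prime_three hr).mp h3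
      omega
    · exfalso
      have h3 : 3 ∣ p := by
        rw [hpm]; exact bt98_three_dvd_even (k + 1) (hodd.add_one)
      have hp3 := (Nat.prime_dvd_prime_iff_eq Nat.prime_three hp).mp h3
      have h22 : 2 ^ k = 2 := by omega
      rw [h22] at hur
      rw [← hur] at hr
      exact Nat.not_prime_one hr

/-- arithmetic of the second alternative of S0997 -/
theorem bt98_arith2 (p q r b m : ℕ) (hp : p.Prime) (hq : q.Prime) (hr : r.Prime) (hqr : q ≠ r)
    (hpm : p = 2 ^ m + 1) (hp3 : 3 < p)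
    (h : r * q ^ b = 2 ^ m * (2 ^ m - 1)) : m = 2 := by
  have hm : 2 ≤ m := by
    by_contra hm
    have hm' : m < 2 := by omega
    interval_cases m <;> norm_num at hpm <;> omega
  have h1m : 1 ≤ 2 ^ m := Nat.one_le_pow _ _ (by norm_num)
  have hu : ¬ 2 ∣ 2 ^ m - 1 := by
    obtain ⟨j, rfl⟩ : ∃ j, m = j + 1 := ⟨m - 1, by omega⟩
    have : 1 ≤ 2 ^ j := Nat.one_le_pow _ _ (by norm_num)
    rw [pow_succ]; omega
  obtain ⟨hq2, hur⟩ := bt98_split r q b m (2 ^ m - 1) hr hq hqr hm hu h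
  rcases Nat.even_or_odd m with hev | hodd
  · have h3 : 3 ∣ r := by
      rw [← hur]; exact bt98_three_dvd_even m hev
    have hr3 := (Nat.prime_dvd_prime_iff_eq Nat.prime_three hr).mp h3
    have h4 : 2 ^ m = 2 ^ 2 := by omega
    exact Nat.pow_right_injective (le_refl 2) h4
  · exfalso
    have h3 : 3 ∣ p := by
      rw [hpm]; exact bt98_three_dvd_odd m hodd
    have := (Nat.prime_dvd_prime_iff_eq Nat.prime_three hp).mp h3
    omega

/-- the conclusion of S0998 from the conclusion of S0997 for the larger prime `p`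
(with `g₀ = r < p - 1`) -/
theorem bt98_core {G : Type*} [Group G] [Finite G] [IsSimpleGroup G]
    (p q r b : ℕ) (hp : p.Prime) (hq : q.Prime) (hr : r.Prime) (hpq : p ≠ q) (hqr : q ≠ r)
    (hrp : r < p - 1) (hG' : Nat.card G = p * r * q ^ b)
    (h97 : (∃ (m : ℕ) (F : Type) (_ : Field F) (_ : Fintype F), Fintype.card F = p ∧
        (p = 2 ^ m + 1 ∨ p = 2 ^ m - 1) ∧
        Nonempty (G ≃* Matrix.ProjectiveSpecialLinearGroup (Fin 2) F)) ∨
      (∃ (m : ℕ) (F : Type) (_ : Field F) (_ : Fintype F), Fintype.card F = 2 ^ m ∧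
        p = 2 ^ m + 1 ∧ 3 < p ∧
        Nonempty (G ≃* Matrix.ProjectiveSpecialLinearGroup (Fin 2) F))) :
    (∃ (F : Type) (_ : Field F) (_ : Fintype F), Fintype.card F = 5 ∧
        Nonempty (G ≃* Matrix.ProjectiveSpecialLinearGroup (Fin 2) F)) ∨
      (∃ (F : Type) (_ : Field F) (_ : Fintype F), Fintype.card F = 7 ∧
        Nonempty (G ≃* Matrix.ProjectiveSpecialLinearGroup (Fin 2) F)) := by
  have hp2 : 2 < p := by have := hr.two_le; omega
  rcases h97 with ⟨m, F, iF, iFt, hF, hpm, ⟨e⟩⟩ | ⟨m, F, iF, iFt, hF, hpm, hp3, ⟨e⟩⟩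
  · have hc := Cfsg.Agent.Lib.Helper28.P2.card_psl2 (F := F)
    rw [← Nat.card_congr e.toEquiv, hG', hF] at hc
    have hodd : ¬ 2 ∣ p := by
      intro h2
      have := (Nat.prime_dvd_prime_iff_eq Nat.prime_two hp).mp h2
      omega
    have hg : Nat.gcd 2 (p - 1) = 2 := by
      apply Nat.gcd_eq_left
      omega
    rw [hg] at hc
    have hsq : p ^ 2 - 1 = (p - 1) * (p + 1) := by
      obtain ⟨t, rfl⟩ : ∃ t, p = t + 1 := ⟨p - 1, by omega⟩
      rw [Nat.add_sub_cancel]
      have : (t + 1) ^ 2 = t * (t + 1 + 1) + 1 := by ring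
      rw [this, Nat.add_sub_cancel]
    rw [hsq] at hc
    have h : 2 * (r * q ^ b) = (p - 1) * (p + 1) := by
      have : p * (2 * (r * q ^ b)) = p * ((p - 1) * (p + 1)) := by rw [← hc]; ring
      exact Nat.eq_of_mul_eq_mul_left hp.pos this
    rcases bt98_arith1 p q r b m hp hq hr hqr hp2 hpm h with h5 | h7
    · exact Or.inl ⟨F, iF, iFt, hF.trans h5, ⟨e⟩⟩
    · exact Or.inr ⟨F, iF, iFt, hF.trans h7, ⟨e⟩⟩
  · left
    have hc := Cfsg.Agent.Lib.Helper28.P2.card_psl2 (F := F)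
    rw [← Nat.card_congr e.toEquiv, hF] at hc
    have h1m : 1 ≤ 2 ^ m := Nat.one_le_pow _ _ (by norm_num)
    have hm1 : 1 ≤ m := by
      by_contra hm
      have : m = 0 := by omega
      subst this
      norm_num at hpm
      omega
    have hg : Nat.gcd 2 (2 ^ m - 1) = 1 := by
      have : ¬ 2 ∣ 2 ^ m - 1 := by
        obtain ⟨j, rfl⟩ : ∃ j, m = j + 1 := ⟨m - 1, by omega⟩
        have : 1 ≤ 2 ^ j := Nat.one_le_pow _ _ (by norm_num)
        rw [pow_succ]; omega
      exact (Nat.Prime.coprime_iff_not_dvd Nat.prime_two).mpr this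
    rw [hg, one_mul] at hc
    have hsq : (2 ^ m) ^ 2 - 1 = (2 ^ m - 1) * (2 ^ m + 1) := by
      obtain ⟨t, ht⟩ : ∃ t, 2 ^ m = t + 1 := ⟨2 ^ m - 1, by omega⟩
      rw [ht, Nat.add_sub_cancel]
      have : (t + 1) ^ 2 = t * (t + 1 + 1) + 1 := by ring
      rw [this, Nat.add_sub_cancel]
    have hcard := hc
    rw [hG', hsq, ← hpm] at hc
    have h : r * q ^ b = 2 ^ m * (2 ^ m - 1) := by
      have : p * (r * q ^ b) = p * (2 ^ m * (2 ^ m - 1)) := by rw [← mul_assoc, hc]; ring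
      exact Nat.eq_of_mul_eq_mul_left hp.pos this
    have hm2 := bt98_arith2 p q r b m hp hq hr hqr hpm hp3 h
    subst hm2
    have h60 : Nat.card G = 60 := by rw [hcard]; norm_num
    obtain ⟨e1⟩ := Cfsg.Agent.S0494.result h60
    have : Fact (Nat.Prime 5) := ⟨by norm_num⟩
    obtain ⟨e2⟩ := Cfsg.Agent.S0253.result (F := ZMod 5) (ZMod.card 5)
    exact ⟨ZMod 5, inferInstance, inferInstance, ZMod.card 5, ⟨e1.trans e2.symm⟩⟩

/-- S0998 from S0997 (the latter as a hypothesis on `G`, for all parameters) -/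
theorem bt98_main {G : Type*} [Group G] [Finite G] [IsSimpleGroup G]
    (h97 : ∀ (p q b g₀ : ℕ), p.Prime → q.Prime → p ≠ q → Nat.card G = p * q ^ b * g₀ → g₀ < p - 1 →
      (∃ (m : ℕ) (F : Type) (_ : Field F) (_ : Fintype F), Fintype.card F = p ∧
        (p = 2 ^ m + 1 ∨ p = 2 ^ m - 1) ∧
        Nonempty (G ≃* Matrix.ProjectiveSpecialLinearGroup (Fin 2) F)) ∨
      (∃ (m : ℕ) (F : Type) (_ : Field F) (_ : Fintype F), Fintype.card F = 2 ^ m ∧
        p = 2 ^ m + 1 ∧ 3 < p ∧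
        Nonempty (G ≃* Matrix.ProjectiveSpecialLinearGroup (Fin 2) F)))
    (p q r b : ℕ) (hp : p.Prime) (hq : q.Prime) (hr : r.Prime) (hpq : p ≠ q) (hpr : p ≠ r)
    (hqr : q ≠ r) (hG' : Nat.card G = p * r * q ^ b) :
    (∃ (F : Type) (_ : Field F) (_ : Fintype F), Fintype.card F = 5 ∧
        Nonempty (G ≃* Matrix.ProjectiveSpecialLinearGroup (Fin 2) F)) ∨
      (∃ (F : Type) (_ : Field F) (_ : Fintype F), Fintype.card F = 7 ∧
        Nonempty (G ≃* Matrix.ProjectiveSpecialLinearGroup (Fin 2) F)) := by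
  -- the case of the larger prime `p`
  have key : ∀ (p r : ℕ), p.Prime → r.Prime → p ≠ q → q ≠ r → r < p →
      Nat.card G = p * r * q ^ b →
      (∃ (F : Type) (_ : Field F) (_ : Fintype F), Fintype.card F = 5 ∧
        Nonempty (G ≃* Matrix.ProjectiveSpecialLinearGroup (Fin 2) F)) ∨
      (∃ (F : Type) (_ : Field F) (_ : Fintype F), Fintype.card F = 7 ∧
        Nonempty (G ≃* Matrix.ProjectiveSpecialLinearGroup (Fin 2) F)) := by
    intro p r hp hr hpq hqr hrp hG'
    rcases Nat.lt_or_ge r (p - 1) with hlt | hge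
    · exact bt98_core p q r b hp hq hr hpq hqr hlt hG'
        (h97 p q b r hp hq hpq (by rw [hG']; ring) hlt)
    · exfalso
      have hpr1 : p = r + 1 := by omega
      -- consecutive primes: r = 2, p = 3
      have hr2 : r = 2 := by
        rcases hr.eq_two_or_odd with h2 | hodd
        · exact h2
        · exfalso
          have h2p : 2 ∣ p := by omega
          have := (Nat.prime_dvd_prime_iff_eq Nat.prime_two hp).mp h2p
          have := hr.two_le
          omega
      subst hr2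
      have hp3 : p = 3 := hpr1
      subst hp3
      have hq2 : ¬ 2 ∣ q := by
        intro h2
        exact hqr ((Nat.prime_dvd_prime_iff_eq Nat.prime_two hq).mp h2).symm
      have hodd : ¬ 2 ∣ 3 * q ^ b := by
        intro h2
        rcases (Nat.Prime.dvd_mul Nat.prime_two).mp h2 with h3 | h3
        · omega
        · exact hq2 (Nat.prime_two.dvd_of_dvd_pow h3)
      have hqb : 1 ≤ q ^ b := Nat.one_le_pow _ _ hq.pos
      exact bt98_two_mul_odd (G := G) (3 * q ^ b) (by rw [hG']; ring) hodd (by omega)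
  rcases lt_or_gt_of_ne hpr with hlt | hgt
  · exact key r p hr hp (Ne.symm hqr) (Ne.symm hpq) hlt (by rw [hG']; ring)
  · exact key p r hp hr hpq hqr hgt hG'

end Cfsg.Agent.Lib.Helper13.BT
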